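import Groth.Agent.OneMotFaithLib.Main
import Groth.Agent.SemiAbLib.CompExp
import Groth.Agent.SemiAbLib.Stability
import Groth.Agent.GrpFieldLib.Identity
import Groth.Agent.GrpHomLib.Field
import Groth.Agent.GrpSchLib.Cartier
import Groth.Agent.ConstTorsLib.ConstBC
import Groth.Agent.S3030
import Groth.Agent.S5938

/-!
# A morphism of 1-motives which is bijective on all torsion realizations is an isomorphism
-/

set_option autoImplicit false
set_option linter.all false
set_option backward.isDefEq.respectTransparency false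
set_option backward.isDefEq.respectTransparency.types false
set_option maxHeartbeats 2000000

universe u

open CategoryTheory CategoryTheory.Limits MonoidalCategory CartesianMonoidalCategory AlgebraicGeometry Opposite
open scoped MonObj
open Groth.Agent

noncomputable section

namespace OneMotFaith

section Lattice

/-- The torsion of a homomorphic image of a lattice has an exponent. -/
theorem exists_exponent {r : ℕ} {P Q : Type*} [CommGroup P] [CommGroup Q]
    (φ : P →* Multiplicative (Fin r → ℤ)) (hφ : Function.Injective φ) (ψ : P →* Q) :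
    ∃ e : ℕ, 0 < e ∧ ∀ y m, 0 < m → ψ y ^ m = 1 → ψ y ^ e = 1 := by
  let φ' : Additive P →ₗ[ℤ] (Fin r → ℤ) := (MonoidHom.toAdditiveLeft φ).toIntLinearMap
  haveI : Module.Finite ℤ (Additive P) := Module.Finite.of_injective φ' hφ
  let ψ' : Additive P →ₗ[ℤ] Additive Q := (MonoidHom.toAdditive ψ).toIntLinearMap
  let Γ := LinearMap.range ψ'
  haveI : Module.Finite ℤ Γ := inferInstance
  let T := Submodule.torsion ℤ Γ
  haveI : Module.Finite ℤ T := inferInstance
  haveI : Finite T := Module.finite_of_fg_torsion T Submodule.torsion_isTorsion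
  refine ⟨Nat.card T, Nat.card_pos, fun y m hm hy => ?_⟩
  let z : Γ := ⟨ψ' (Additive.ofMul y), LinearMap.mem_range_self _ _⟩
  have hz : z ∈ T := by
    rw [Submodule.mem_torsion_iff]
    refine ⟨⟨(m : ℤ), mem_nonZeroDivisors_of_ne_zero (by exact_mod_cast hm.ne')⟩, Subtype.ext ?_⟩
    show (m : ℤ) • Additive.ofMul (ψ y) = 0
    rw [natCast_zsmul, ← ofMul_pow, hy]
    rfl
  have h := congrArg (fun t : T => ((t : Γ) : Additive Q)) (card_nsmul_eq_zero' (x := (⟨z, hz⟩ : T)))
  simp only [Submodule.coe_smul_of_tower, ZeroMemClass.coe_zero] at h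
  exact congrArg Additive.toMul h

/-- A subgroup of a lattice with divisible quotient is everything. -/
theorem mem_of_divisible {r : ℕ} {P : Type*} [CommGroup P]
    (φ : P →* Multiplicative (Fin r → ℤ)) (hφ : Function.Injective φ) (H : Subgroup P)
    (h : ∀ (y : P) (m : ℕ), 1 ≤ m → ∃ z : P, (z ^ m)⁻¹ * y ∈ H) (x : P) : x ∈ H := by
  let φ' : Additive P →ₗ[ℤ] (Fin r → ℤ) := (MonoidHom.toAdditiveLeft φ).toIntLinearMap
  haveI : Module.Finite ℤ (Additive P) := Module.Finite.of_injective φ' hφ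
  let H' : Submodule ℤ (Additive P) := AddSubgroup.toIntSubmodule H.toAddSubgroup
  let B := Additive P ⧸ H'
  have hdiv : ∀ (y : Additive P) (m : ℕ), 1 ≤ m → ∃ z : Additive P, Submodule.Quotient.mk (p := H') y = m • Submodule.Quotient.mk (p := H') z := by
    intro y m hm
    obtain ⟨z, hz⟩ := h (Additive.toMul y) m hm
    refine ⟨Additive.ofMul z, ?_⟩
    rw [← Submodule.Quotient.mk_smul, Submodule.Quotient.eq]
    show Additive.toMul (y - m • Additive.ofMul z) ∈ H
    rw [sub_eq_add_neg, add_comm]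
    exact hz
  have hle : (⊤ : Submodule ℤ B) ≤ Ideal.span ({2} : Set ℤ) • ⊤ := by
    rintro b -
    obtain ⟨y, rfl⟩ := Submodule.Quotient.mk_surjective H' b
    obtain ⟨z, hz⟩ := hdiv y 2 one_le_two
    rw [hz, ← natCast_zsmul]
    exact Submodule.smul_mem_smul (Ideal.mem_span_singleton_self _) trivial
  obtain ⟨a, ha, ha0⟩ := Submodule.exists_sub_one_mem_and_smul_eq_zero_of_fg_of_le_smul
    (Ideal.span ({2} : Set ℤ)) (⊤ : Submodule ℤ B) Module.Finite.fg_top hle
  have ha' : a ≠ 0 := by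
    rintro rfl
    rw [Ideal.mem_span_singleton] at ha
    omega
  obtain ⟨z, hz⟩ := hdiv (Additive.ofMul x) a.natAbs (Int.natAbs_pos.2 ha')
  have h0 : Submodule.Quotient.mk (p := H') (Additive.ofMul x) = 0 := by
    rw [hz, ← natCast_zsmul]
    rcases Int.natAbs_eq a with e | e
    · rw [← e]; exact ha0 _ trivial
    · rw [show ((a.natAbs : ℕ) : ℤ) = -a by omega, neg_smul, ha0 _ trivial, neg_zero]
  exact (Submodule.Quotient.mk_eq_zero H').1 h0

theorem eq_one_of_pow {r : ℕ} {P : Type*} [Monoid P] (φ : P →* Multiplicative (Fin r → ℤ))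
    (hφ : Function.Injective φ) {x : P} {m : ℕ} (hm : m ≠ 0) (h : x ^ m = 1) : x = 1 := by
  apply hφ
  rw [map_one]
  refine Multiplicative.toAdd.injective (funext fun i => ?_)
  have h3 := congrFun (congrArg Multiplicative.toAdd ((map_pow φ x m).symm.trans ((congrArg φ h).trans (map_one φ)))) i
  simp [hm] at h3
  exact h3

end Lattice

variable {k : Type u} [Field k] [IsAlgClosed k]

local notation "pt₁" => (𝟙_ (Over (Spec (CommRingCat.of k))))

/-- A homomorphism injective on torsion points out of a semi-abelian variety is a closed immersion. -/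
theorem isClosedImmersion_of_torsion [CharZero k] {G H : Over (Spec (CommRingCat.of k))} [GrpObj G] [GrpObj H]
    [LocallyOfFiniteType G.hom] [QuasiCompact G.hom] [LocallyOfFiniteType H.hom] (hG : SemiAbLib.IsSemiAb G)
    (f : G ⟶ H) [IsMonHom f]
    (h : ∀ (m : ℕ) (a : pt₁ ⟶ G), 0 < m → a ^ m = 1 → a ≫ f = 1 → a = 1) :
    IsClosedImmersion f.left ∧ Mono f := by
  haveI := hG.comm.2
  haveI : IsSeparated H.hom := GrpField.isSeparated_grp (G := H)
  obtain ⟨K, _, i, hi, hic, hker, -⟩ := AntiAffLib.exists_kernel f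
  haveI := hi; haveI := hic
  haveI : Mono i := Over.mono_of_mono_left i
  haveI : IsCommMonObj K := AntiAffLib.CommCat.isComm_of_mono i
  haveI : LocallyOfFiniteType K.hom := by rw [← Over.w i]; infer_instance
  haveI : QuasiCompact K.hom := by rw [← Over.w i]; infer_instance
  have hif : ∀ {Z : Over (Spec (CommRingCat.of k))} (z : Z ⟶ K), (z ≫ i) ≫ f = 1 := fun z => by
    rw [Category.assoc, hker.w, Hom.one_def, ← Category.assoc]
    exact congrArg (· ≫ η[H]) (Subsingleton.elim _ _)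
  obtain ⟨K₀, _, i₀, hi₀, hic₀, hif₀, -, hgi, hcs⟩ := GrpField.exists_identity_component (G := K)
  haveI := hi₀; haveI := hic₀; haveI := hif₀; haveI := hgi; haveI := hcs
  haveI : LocallyOfFiniteType K₀.hom := by rw [← Over.w i₀]; infer_instance
  haveI : QuasiCompact K₀.hom := by rw [← Over.w i₀]; infer_instance
  haveI : LocallyOfFinitePresentation i₀.left := AntiAffLib.lfp_of_lft i₀
  haveI : IsOpenImmersion i₀.left := IsOpenImmersion.of_flat_of_mono _
  haveI : Smooth K₀.hom := GrpSchLib.smooth_of_charZero K₀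
  haveI : IrreducibleSpace K₀.left := GeometricallyIrreducible.irreducibleSpace_of_subsingleton K₀.hom
  haveI : ConnectedSpace K₀.left := inferInstance
  haveI : IsClosedImmersion (i₀ ≫ i).left := by rw [Over.comp_left]; infer_instance
  have hK₀ : SemiAbLib.IsSemiAb K₀ := hG.sub (i₀ ≫ i)
  haveI : Mono i₀ := Over.mono_of_mono_left i₀
  haveI : IsSeparated K₀.hom := GrpField.isSeparated_grp (G := K₀)
  haveI : Fact (Nat.Prime 2) := ⟨Nat.prime_two⟩
  have h1 : 𝟙 K₀ = 1 := by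
    refine hK₀.eq_one_of_torsion 2 (by rw [Nat.cast_ofNat]; exact two_ne_zero) (𝟙 K₀) ?_
    rintro a ⟨n, ha⟩
    have h2 : (a ≫ i₀ ≫ i) = 1 := by
      refine h (2 ^ n) _ (Nat.two_pow_pos _) ?_ ?_
      · rw [← MonObj.pow_comp, ha, MonObj.one_comp]
      · rw [← Category.assoc]; exact hif (a ≫ i₀)
    rw [Category.comp_id]
    rw [← cancel_mono (i₀ ≫ i), MonObj.one_comp]
    exact h2
  obtain ⟨n, hn, c, hc⟩ := SemiAbLib.exists_pow_component i₀
  have hc1 : 𝟙 K ^ n = 1 := by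
    rw [← hc, ← Category.comp_id c, h1, MonObj.comp_one, MonObj.one_comp]
  haveI : Smooth K.hom := GrpSchLib.smooth_of_charZero K
  haveI : IsReduced K.left := AlgSpLib.isReduced_of_smooth K.hom
  haveI : IsSeparated K.hom := GrpField.isSeparated_grp (G := K)
  have hK : 𝟙 K = 1 := by
    refine SemiAbLib.hom_ext_of_dense Set.univ (SemiAbLib.closure_pt_univ K) _ _ fun x _ => ?_
    have hx : x ^ n = 1 := by
      have := MonObj.comp_pow (𝟙 K) n x
      rw [hc1, MonObj.comp_one, Category.comp_id] at this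
      exact this.symm
    have h2 : x ≫ i = 1 := h n _ (Nat.pos_of_ne_zero hn) (by rw [← MonObj.pow_comp, hx, MonObj.one_comp]) (hif x)
    rw [Category.comp_id, MonObj.comp_one, ← cancel_mono i, MonObj.one_comp]
    exact h2
  have hmono : Mono f := ⟨fun {Z} a b hab => by
    obtain ⟨l, hl⟩ := AntiAffLib.exists_lift_kernel hker (a⁻¹ * b) (by
      rw [MonObj.mul_comp, GrpObj.inv_comp, hab, inv_mul_cancel])
    rw [← Category.comp_id l, hK, MonObj.comp_one, MonObj.one_comp] at hl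
    exact inv_mul_eq_one.1 hl.symm⟩
  haveI : Mono f.left := (Over.forget _).map_mono f
  haveI : QuasiCompact (f.left ≫ H.hom) := by rw [Over.w f]; infer_instance
  haveI : QuasiCompact f.left := QuasiCompact.of_comp f.left H.hom
  exact ⟨GrpHom.isClosedImmersion_of_mono f, hmono⟩

/-- A homomorphism of etale groups which is bijective on rational points is an isomorphism. -/
theorem isIso_of_bijective {L L' : Over (Spec (CommRingCat.of k))} [GrpObj L] [GrpObj L'] [Etale L.hom] [Etale L'.hom]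
    (f : L ⟶ L') (hf : Function.Bijective fun x : pt₁ ⟶ L => x ≫ f) : IsIso f := by
  haveI : IsSeparated L.hom := GrpField.isSeparated_grp (G := L)
  haveI : IsSeparated L'.hom := GrpField.isSeparated_grp (G := L')
  haveI : IsReduced L.left := AlgSpLib.isReduced_of_smooth L.hom
  haveI : IsReduced L'.left := AlgSpLib.isReduced_of_smooth L'.hom
  let q : (pt₁ ⟶ L') → (pt₁ ⟶ L') := id
  have hsec : ∀ m : pt₁ ⟶ L', (q m).left ≫ L'.hom = 𝟙 _ := fun m => Over.w m
  haveI : ∀ m, IsOpenImmersion (q m).left := fun m => by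
    haveI : Etale ((q m).left ≫ L'.hom) := by rw [hsec]; exact MorphismProperty.id_mem @Etale _
    haveI : Etale (q m).left := Etale.of_comp _ L'.hom
    haveI : Mono (𝟙 (Spec (CommRingCat.of k))) := inferInstance
    haveI : Mono (q m).left := mono_of_mono_fac (hsec m)
    exact IsOpenImmersion.of_flat_of_mono _
  have hd : Pairwise fun m n => Disjoint (Set.range (q m).left.base) (Set.range (q n).left.base) := by
    intro m n hmn
    refine Set.disjoint_left.2 ?_
    rintro x ⟨a, ha⟩ ⟨b, hb⟩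
    refine hmn (Over.OverMorphism.ext (ext_of_apply_closedPoint_eq L'.hom (hsec m) (hsec n) ?_))
    rw [Subsingleton.elim (α := PrimeSpectrum k) (IsLocalRing.closedPoint k) a, ]
    exact ha.trans (hb.symm.trans (congrArg (q n).left.base (Subsingleton.elim (α := PrimeSpectrum k) _ _)))
  have hs : ∀ x, ∃ m, x ∈ Set.range (q m).left.base := by
    intro x
    let p : L' ⟶ Over.mk (𝟙 (Spec (CommRingCat.of k))) := Over.homMk L'.hom (Category.comp_id _)
    haveI : Etale p.left := ‹Etale L'.hom›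
    obtain ⟨s, -, hx, -⟩ := AlgSpLib.exists_section_of_etale p x
    exact ⟨s, _, hx⟩
  letI : Group (pt₁ ⟶ L') := inferInstance
  obtain ⟨e, he⟩ := ConstTorsLib.exists_iso_const q hd hs
  choose inv hinv using hf.surjective
  let d : TwC.const (Spec (CommRingCat.of k)) (pt₁ ⟶ L') ⟶ L :=
    Over.homMk (Sigma.desc fun m => (inv m).left) (Sigma.hom_ext _ _ fun m => by
      rw [Sigma.ι_desc_assoc]
      exact (Over.w (inv m)).trans (by simp))
  have hd' : ∀ m, TwC.pt (Spec (CommRingCat.of k)) (pt₁ ⟶ L') m ≫ d = inv m := fun m => Over.OverMorphism.ext (Sigma.ι_desc _ _)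
  have hg : ∀ y : pt₁ ⟶ L', y ≫ e.hom ≫ d = inv y := fun y => by
    conv_lhs => rw [show y = TwC.pt (Spec (CommRingCat.of k)) (pt₁ ⟶ L') y ≫ e.inv from (he y).symm]
    rw [Category.assoc, e.inv_hom_id_assoc, hd']
  refine ⟨⟨e.hom ≫ d, ?_, ?_⟩⟩
  · refine SemiAbLib.hom_ext_of_dense Set.univ (SemiAbLib.closure_pt_univ L) _ _ fun x _ => ?_
    rw [← Category.assoc, hg, Category.comp_id]
    exact hf.injective (hinv (x ≫ f))
  · refine SemiAbLib.hom_ext_of_dense Set.univ (SemiAbLib.closure_pt_univ L') _ _ fun y _ => ?_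
    rw [← Category.assoc, hg, Category.comp_id]
    exact hinv y

theorem isIso_of_tzMap_bijective (k : Type u) [Field k] [IsAlgClosed k] [CharZero k]
    (M N : OneMot.Motive (Spec (CommRingCat.of k))) (f : OneMot.Motive.Hom M N)
    (h : ∀ m : ℕ, 1 ≤ m → Function.Bijective (OneMot.tzMap m (Over.mk (𝟙 (Spec (CommRingCat.of k)))) f)) :
    f.IsIso := by
  haveI := f.monHom_fL; haveI := f.monHom_fG
  obtain ⟨hMG, hMlft, hMqc⟩ := isSemiAb M.incl M.proj M.semiAb
  obtain ⟨hNG, hNlft, hNqc⟩ := isSemiAb N.incl N.proj N.semiAb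
  haveI := hMlft; haveI := hMqc; haveI := hNlft; haveI := hNqc
  obtain ⟨hML, rM, φM, hφM⟩ := lattice_props M.lattice
  obtain ⟨hNL, rN, φN, hφN⟩ := lattice_props N.lattice
  haveI := hML; haveI := hNL
  let T₀ := Over.mk (𝟙 (Spec (CommRingCat.of k)))
  letI : CommGroup (T₀ ⟶ M.G) := Hom.commGroup
  letI : CommGroup (T₀ ⟶ N.G) := Hom.commGroup
  letI : CommGroup (T₀ ⟶ M.L) := Hom.commGroup
  letI : CommGroup (T₀ ⟶ N.L) := Hom.commGroup
  have inj : ∀ (m : ℕ), 1 ≤ m → ∀ (x : T₀ ⟶ M.L) (a : T₀ ⟶ M.G), a ^ m = (x ≫ M.u)⁻¹ →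
      ∀ y : T₀ ⟶ N.L, y ^ m = x ≫ f.fL → (y ≫ N.u)⁻¹ = a ≫ f.fG →
      ∃ z : T₀ ⟶ M.L, z ^ m = x ∧ (z ≫ M.u)⁻¹ = a := by
    intro m hm x a ha y hy hy'
    have hp : ((Additive.ofMul x, Additive.ofMul a) : Additive (T₀ ⟶ M.L) × Additive (T₀ ⟶ M.G)) ∈ OneMot.tzPairs M m T₀ := by
      show Additive.ofMul (x ≫ M.u) = -(m • Additive.ofMul a)
      rw [← ofMul_pow, ha, ← ofMul_inv, inv_inv]
    have h0 : OneMot.tzMap m T₀ f (QuotientAddGroup.mk ⟨_, hp⟩) = 0 :=
      (QuotientAddGroup.eq_zero_iff _).2 ⟨Additive.ofMul y, Prod.ext (congrArg Additive.ofMul hy) (congrArg Additive.ofMul hy')⟩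
    obtain ⟨z, hz⟩ := (QuotientAddGroup.eq_zero_iff _).1 ((h m hm).1 (h0.trans (map_zero _).symm))
    exact ⟨Additive.toMul z, congrArg Additive.toMul (congrArg Prod.fst hz),
      congrArg Additive.toMul (congrArg Prod.snd hz)⟩
  have surj : ∀ (m : ℕ), 1 ≤ m → ∀ (x' : T₀ ⟶ N.L) (b : T₀ ⟶ N.G), b ^ m = (x' ≫ N.u)⁻¹ →
      ∃ (x : T₀ ⟶ M.L) (a : T₀ ⟶ M.G) (y : T₀ ⟶ N.L), a ^ m = (x ≫ M.u)⁻¹ ∧
        y ^ m = (x ≫ f.fL)⁻¹ * x' ∧ (y ≫ N.u)⁻¹ = (a ≫ f.fG)⁻¹ * b := by
    intro m hm x' b hb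
    have hp : ((Additive.ofMul x', Additive.ofMul b) : Additive (T₀ ⟶ N.L) × Additive (T₀ ⟶ N.G)) ∈ OneMot.tzPairs N m T₀ := by
      show Additive.ofMul (x' ≫ N.u) = -(m • Additive.ofMul b)
      rw [← ofMul_pow, hb, ← ofMul_inv, inv_inv]
    obtain ⟨c, hc⟩ := (h m hm).2 (QuotientAddGroup.mk ⟨_, hp⟩)
    obtain ⟨⟨⟨x, a⟩, hxa⟩, rfl⟩ := QuotientAddGroup.mk_surjective c
    obtain ⟨y, hy⟩ := QuotientAddGroup.eq.1 hc
    refine ⟨Additive.toMul x, Additive.toMul a, Additive.toMul y, ?_,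
      congrArg Additive.toMul (congrArg Prod.fst hy), congrArg Additive.toMul (congrArg Prod.snd hy)⟩
    have := congrArg Additive.toMul hxa
    simp only [toMul_ofMul, toMul_neg, toMul_nsmul] at this
    rw [this, inv_inv]
  -- fG is an isomorphism
  obtain ⟨hfc, hfm⟩ := isClosedImmersion_of_torsion hMG f.fG fun m a hm ha hf => by
    obtain ⟨z, hz, hz'⟩ := inj m hm 1 a (by rw [MonObj.one_comp, inv_one]; exact ha) 1
      (by rw [one_pow, MonObj.one_comp]) (by rw [MonObj.one_comp, inv_one]; exact hf.symm)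
    rw [← hz', eq_one_of_pow φM hφM (by omega) hz, MonObj.one_comp, inv_one]
  haveI := hfc; haveI := hfm
  haveI : Flat M.G.hom := GrpField.flat_field _
  haveI : Flat N.G.hom := GrpField.flat_field _
  have hN : AlgGrp.IsNormalHom f.fG := fun T g n => ⟨n, by
    letI : CommGroup (T ⟶ N.G) := Hom.commGroup
    rw [mul_comm g, mul_inv_cancel_right]⟩
  obtain ⟨Q, _, p, hp, hpf, hps, hpl, hker, hQs, -, -⟩ := Groth.Agent.S3030.result k M.G N.G f.fG hN
  haveI := hp; haveI := hpf; haveI := hps; haveI := hpl; haveI := hQs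
  haveI : IsCommMonObj Q := AntiAffLib.CommCat.isComm_of_epi p
  haveI : LocallyOfFiniteType (p.left ≫ Q.hom) := by rw [Over.w p]; infer_instance
  haveI : LocallyOfFiniteType Q.hom := Groth.Agent.S5938.result p.left Q.hom
  letI : CommGroup (T₀ ⟶ Q) := Hom.commGroup
  have hfp : ∀ a : T₀ ⟶ M.G, (a ≫ f.fG) ≫ p = 1 := fun a => by
    rw [Category.assoc, hker.w, Hom.one_def, ← Category.assoc]
    exact congrArg (· ≫ η[Q]) (Subsingleton.elim _ _)
  let ψ : (T₀ ⟶ N.L) →* (T₀ ⟶ Q) :=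
    MonoidHom.mk' (fun y => y ≫ N.u ≫ p) fun y z => MonObj.mul_comp _ _ _
  obtain ⟨e, he, hψ⟩ := exists_exponent φN hφN ψ
  have hpt : ∀ (m : ℕ) (b : T₀ ⟶ N.G), 0 < m → b ^ m = 1 → (b ≫ p) ^ e = 1 := by
    intro m b hm hb
    obtain ⟨x, a, y, -, -, hy'⟩ := surj m hm 1 b (by rw [MonObj.one_comp, inv_one]; exact hb)
    have hb' : b ≫ p = (ψ y)⁻¹ := by
      have := congrArg (· ≫ p) hy'
      simp only [GrpObj.inv_comp, MonObj.mul_comp, hfp, inv_one, one_mul] at this
      rw [← this]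
      simp only [ψ, MonoidHom.mk'_apply, Category.assoc]
    have h2 : ψ y ^ m = 1 := by
      rw [← inv_inj, ← inv_pow, ← hb', inv_one, ← MonObj.pow_comp, hb, MonObj.one_comp]
    rw [hb', inv_pow]; exact inv_eq_one.2 (hψ y m hm h2)
  haveI : Fact (Nat.Prime 2) := ⟨Nat.prime_two⟩
  have hp1 : p = 1 := by
    refine hNG.eq_one_of_torsion 2 (by rw [Nat.cast_ofNat]; exact two_ne_zero) p ?_
    rintro b ⟨n, hb⟩
    obtain ⟨b', hb'⟩ := hNG.exists_root (n := e) he.ne' b
    rw [← hb', MonObj.pow_comp]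
    refine hpt (e * 2 ^ n) b' (Nat.mul_pos he (Nat.two_pow_pos _)) ?_
    rw [pow_mul, hb']
    exact hb
  obtain ⟨l, hl⟩ := AntiAffLib.exists_lift_kernel hker (𝟙 N.G) (by rw [Category.id_comp, hp1])
  haveI : IsSplitEpi f.fG := ⟨⟨⟨l, hl⟩⟩⟩
  have hG : IsIso f.fG := isIso_of_mono_of_isSplitEpi _
  refine ⟨isIso_of_bijective f.fL ⟨?_, ?_⟩, hG⟩
  · intro x₁ x₂ e12
    refine inv_mul_eq_one.1 (eq_one_of_forall_root φM hφM ((x₁⁻¹ * x₂ : T₀ ⟶ M.L)) fun m hm => ?_)
    have hx : (x₁⁻¹ * x₂ : T₀ ⟶ M.L) ≫ f.fL = 1 := by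
      rw [MonObj.mul_comp, GrpObj.inv_comp]
      exact inv_mul_eq_one.2 e12
    have hu : (x₁⁻¹ * x₂ : T₀ ⟶ M.L) ≫ M.u = 1 := by
      rw [← cancel_mono f.fG, Category.assoc, f.comm, ← Category.assoc, hx, MonObj.one_comp, MonObj.one_comp]
    obtain ⟨z, hz, -⟩ := inj m hm _ 1 (by rw [hu, inv_one, one_pow]) 1 (by rw [hx, one_pow])
      (by rw [MonObj.one_comp, inv_one, MonObj.one_comp])
    exact ⟨z, hz⟩
  · intro y
    let fl : (T₀ ⟶ M.L) →* (T₀ ⟶ N.L) := MonoidHom.mk' (fun x => x ≫ f.fL) fun a b => MonObj.mul_comp _ _ _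
    refine mem_of_divisible φN hφN fl.range (fun y' m hm => ?_) y
    obtain ⟨b, hb⟩ := hNG.exists_root (n := m) (by omega) (y' ≫ N.u)⁻¹
    obtain ⟨x, a, z, -, hz, -⟩ := surj m hm y' b hb
    refine ⟨z, x, ?_⟩
    show x ≫ f.fL = _
    rw [hz, mul_inv_rev, inv_inv, mul_assoc, mul_comm (x ≫ f.fL) y', inv_mul_cancel_left]

end OneMotFaith
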