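import Groth.Agent.SemiAbLib.Basic
import Groth.Agent.SemiAbLib.Torus
import Groth.Agent.ExtGmLib.Props
import Groth.Agent.AdeqModLib.Good
import Groth.Agent.ConstTorsLib.Ext
import Groth.Agent.AlgSpLib.ValNoethAux
import Groth.Prelude.Def_OneMot

/-!
# Morphisms of 1-motives are determined by the torsion points
-/

set_option autoImplicit false
set_option linter.all false
set_option backward.isDefEq.respectTransparency false
set_option backward.isDefEq.respectTransparency.types false
set_option maxHeartbeats 2000000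

universe u

open CategoryTheory CategoryTheory.Limits MonoidalCategory CartesianMonoidalCategory AlgebraicGeometry Opposite
open scoped MonObj
open Groth.Agent

noncomputable section

namespace OneMotFaith

section Seq

variable {S : Scheme.{u}} {T G A : Over S} [GrpObj T] [IsCommMonObj T] [GrpObj G] [IsCommMonObj G]
  [GrpObj A] [IsCommMonObj A] (i : T ⟶ G) (q : G ⟶ A) [IsMonHom i] [IsMonHom q] (w : i ≫ q = 1)

/-- A short exact sequence of sheaves of points is an extension. -/
theorem isExt_of_shortExact (h : (CGrpSh.seq Scheme.fppfPrecoverage i q w).ShortExact) : ExtGm.IsExt i q := by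
  let C := CGrpSh.seq Scheme.fppfPrecoverage i q w
  let F := sheafToPresheaf (QuotSh.J Scheme.fppfPrecoverage S) AddCommGrpCat.{u + 1}
  haveI := h.mono_f
  haveI := h.epi_g
  have hinj : ∀ (X : Over S) (a b : X ⟶ T), a ≫ i = b ≫ i → a = b := by
    intro X a b e
    haveI : Mono (F.map C.f) := inferInstance
    have hm : Mono ((F.map C.f).app (op X)) := NatTrans.mono_iff_mono_app (F.map C.f) |>.1 inferInstance (op X)
    have hi := (AddCommGrpCat.mono_iff_injective _).1 hm
    have := @hi (ULift.up (Additive.ofMul a)) (ULift.up (Additive.ofMul b)) (ULift.ext _ _ (congrArg Additive.ofMul e))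
    exact congrArg Additive.toMul (congrArg ULift.down this)
  have hker : ∀ (X : Over S) (g : X ⟶ G), g ≫ q = 1 → ∃ l : X ⟶ T, l ≫ i = g := by
    intro X g hg
    let E := F ⋙ (evaluation (Over S)ᵒᵖ AddCommGrpCat.{u + 1}).obj (op X)
    have hE := h.exact.map_of_mono_of_preservesKernel E h.mono_f inferInstance
    rw [ShortComplex.ab_exact_iff] at hE
    obtain ⟨l, hl⟩ := hE (ULift.up (Additive.ofMul g)) (ULift.ext _ _ (congrArg Additive.ofMul hg))
    exact ⟨l.down.toMul, congrArg Additive.toMul (congrArg ULift.down hl)⟩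
  refine ⟨inferInstance, inferInstance, w, ?_, fun X a b hab => ?_⟩
  · haveI : Sheaf.IsLocallySurjective C.g := (Sheaf.isLocallySurjective_iff_epi' AddCommGrpCat.{u + 1} C.g).2 inferInstance
    have hR := (GrothendieckTopology.mem_over_iff _ _).1
      (Presheaf.imageSieve_mem (QuotSh.J Scheme.fppfPrecoverage S) C.g.hom (U := op A) (ULift.up (Additive.ofMul (𝟙 A))))
    obtain ⟨κ, Y, g, hg, hgR⟩ := AdeqModLib.good_fppf.mem hR
    refine ExtDescLib.hasCover_of_locallyTrivial q ⟨Presieve.ofArrows Y g, hg, ?_⟩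
    rintro Z f ⟨j⟩
    obtain ⟨x, hx⟩ := (Sieve.overEquiv_iff (Presheaf.imageSieve C.g.hom (ULift.up (Additive.ofMul (𝟙 A)))) (g j)).1 (hgR j)
    refine ⟨x.down.toMul.left, ?_⟩
    have e := congrArg CommaMorphism.left (congrArg Additive.toMul (congrArg ULift.down hx))
    exact e.trans (Category.comp_id _)
  · obtain ⟨l, hl⟩ := hker X (a⁻¹ * b) (by rw [MonObj.mul_comp, GrpObj.inv_comp, hab, inv_mul_cancel])
    refine ⟨l, by beta_reduce; rw [hl, mul_inv_cancel_left], fun l' hl' => hinj X l' l ?_⟩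
    rw [hl, eq_inv_mul_iff_mul_eq]
    exact hl'

end Seq

variable {k : Type u} [Field k] [IsAlgClosed k]

local notation "pt₁" => (𝟙_ (Over (Spec (CommRingCat.of k))))

theorem isSemiAb {T G A : Over (Spec (CommRingCat.of k))} [GrpObj T] [IsCommMonObj T] [GrpObj G] [IsCommMonObj G]
    [GrpObj A] [IsCommMonObj A] (i : T ⟶ G) (q : G ⟶ A) [IsMonHom i] [IsMonHom q]
    (h : OneMot.IsSemiAbWith T G A i q) : SemiAbLib.IsSemiAb G ∧ LocallyOfFiniteType G.hom ∧ QuasiCompact G.hom := by
  have hext := isExt_of_shortExact i q h.comp h.shortExact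
  haveI := h.abelian.proper
  haveI := h.abelian.smooth
  obtain ⟨r, v, hv, hv'⟩ := SemiAbLib.exists_laurent_iso h.torus
  haveI : IsIso v.inv.left := (Over.forget _).map_isIso v.inv
  let L := MonoidAlgebra k (Multiplicative (Fin r → ℤ))
  have hT : T.hom = v.inv.left ≫ Spec.map (CommRingCat.ofHom (algebraMap k L)) := (Over.w v.inv).symm
  haveI : IsAffine T.left := AlbLib.isAffine_of_isTorus h.torus
  haveI : IsAffineHom T.hom := isAffineHom_of_isAffine T.hom
  haveI : Algebra.FiniteType k L := inferInstance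
  haveI : LocallyOfFiniteType T.hom := by
    haveI : LocallyOfFiniteType (Spec.map (CommRingCat.ofHom (algebraMap k L))) :=
      (HasRingHomProperty.Spec_iff (P := @LocallyOfFiniteType)).2 (RingHom.finiteType_algebraMap.2 inferInstance)
    rw [hT]; infer_instance
  haveI : Flat T.hom := GrpField.flat_field _
  haveI : IsLocallyNoetherian (Spec (CommRingCat.of k)) := inferInstance
  haveI : LocallyOfFinitePresentation T.hom := by
    haveI : LocallyOfFinitePresentation (Spec.map (CommRingCat.ofHom (algebraMap k L))) :=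
      (HasRingHomProperty.Spec_iff (P := @LocallyOfFinitePresentation)).2
        (RingHom.finitePresentation_algebraMap.2 (Algebra.FinitePresentation.of_finiteType.1 inferInstance))
    rw [hT]; exact MorphismProperty.comp_mem _ _ _ inferInstance inferInstance
  obtain ⟨hqa, hqf, hql, hqs⟩ := ExtGm.props_of_isExt hext
  haveI := hqa; haveI := hqf; haveI := hql; haveI := hqs
  have hker : AlgGrp.IsKernel i q := by
    have hcond : ∀ s : PullbackCone q η[A], (1 : s.pt ⟶ G) ≫ q = s.fst ≫ q := fun s => by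
      rw [s.condition, MonObj.one_comp, Hom.one_def]
      exact congrArg (· ≫ η[A]) (Subsingleton.elim _ _)
    choose c hc using fun s : PullbackCone q η[A] => (hext.ker _ 1 s.fst (hcond s)).exists
    refine ⟨⟨?_⟩, ⟨PullbackCone.IsLimit.mk ?_ c (fun s => ?_)
      (fun s => Subsingleton.elim _ _) fun s m h1 h2 => ?_⟩⟩
    · rw [h.comp, Hom.one_def]
    · rw [h.comp, Hom.one_def]
    · exact (_root_.one_mul _).symm.trans (hc s)
    · exact (hext.ker _ 1 s.fst (hcond s)).unique ((_root_.one_mul _).trans h1) (hc s)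
  haveI : IsClosedImmersion i.left := by
    haveI : IsClosedImmersion (η[A] : pt₁ ⟶ A).left :=
      isClosedImmersion_of_comp_eq_id A.hom _ (Over.w _)
    exact MorphismProperty.of_isPullback (P := @IsClosedImmersion) ((IsPullback.map (Over.forget _) hker).flip) ‹_›
  haveI : ConnectedSpace A.left := by
    let z := IsLocalRing.closedPoint k
    haveI := h.abelian.connectedFibres z
    refine Function.Surjective.connectedSpace (f := A.hom.fiberι z) ?_ (A.hom.fiberι z).continuous
    intro x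
    have hx : x ∈ Set.range (A.hom.fiberι z) := by
      rw [Scheme.Hom.range_fiberι]
      exact Subsingleton.elim (α := PrimeSpectrum k) _ _
    exact hx
  refine ⟨⟨T, inferInstance, i, A, inferInstance, q, inferInstance, inferInstance, h.torus, inferInstance, hqs, hqf,
    hker, inferInstance, inferInstance, inferInstance⟩, ?_, ?_⟩
  · rw [← Over.w q]; infer_instance
  · rw [← Over.w q]; infer_instance

theorem lattice_props {L : Over (Spec (CommRingCat.of k))} [GrpObj L] (h : OneMot.IsLattice L) :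
    Etale L.hom ∧ ∃ (r : ℕ) (φ : (pt₁ ⟶ L) →* Multiplicative (Fin r → ℤ)), Function.Injective φ := by
  obtain ⟨S', f, hf, ⟨s', hs'⟩, r, e, he⟩ := h (IsLocalRing.closedPoint k)
  haveI := hf
  let fK : Over.mk f ⟶ Over.mk (𝟙 (Spec (CommRingCat.of k))) := Over.homMk f (Category.comp_id _)
  haveI : Etale fK.left := hf
  obtain ⟨σo, hσ, -, -⟩ := AlgSpLib.exists_section_of_etale fK s'
  let σ : Spec (CommRingCat.of k) ⟶ S' := σo.left
  have hσf : σ ≫ f = 𝟙 _ := congrArg CommaMorphism.left hσ
  haveI : Etale (Red.bc f L).hom := ExtDescLib.etale_hom (e ≪≫ ConstTorsLib.constULift _)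
  have hLe : Etale L.hom := by
    let π := pullback.snd (pullback.snd L.hom f) σ
    haveI : Etale (pullback.snd L.hom f) := ‹Etale (Red.bc f L).hom›
    haveI : Etale π := MorphismProperty.pullback_snd _ _ ‹_›
    have sq := (IsPullback.of_hasPullback (pullback.snd L.hom f) σ).paste_horiz (IsPullback.of_hasPullback L.hom f)
    haveI : IsIso (σ ≫ f) := by rw [hσf]; infer_instance
    haveI : IsIso (pullback.fst (pullback.snd L.hom f) σ ≫ pullback.fst L.hom f) := sq.isIso_fst_of_isIso
    have hw : L.hom = inv (pullback.fst (pullback.snd L.hom f) σ ≫ pullback.fst L.hom f) ≫ π ≫ (σ ≫ f) := by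
      rw [IsIso.eq_inv_comp, sq.w]
    rw [hw, hσf, Category.comp_id]
    infer_instance
  let Ψ : (pt₁ ⟶ L) → (𝟙_ (Over S') ⟶ Red.bc f L) := fun x =>
    Functor.LaxMonoidal.ε (Over.pullback f) ≫ (Over.pullback f).map x
  have hΨ : ∀ x y, Ψ (x * y) = Ψ x * Ψ y := fun x y => by
    simp only [Ψ, Functor.map_mul, MonObj.comp_mul]
  have hfst : ∀ x, (Ψ x).left ≫ pullback.fst L.hom f = f ≫ x.left := by
    intro x
    have h : (Functor.LaxMonoidal.ε (Over.pullback f)).left ≫ pullback.fst (𝟙_ (Over (Spec (CommRingCat.of k)))).hom f = f := by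
      have h0 : pullback.fst (𝟙_ (Over (Spec (CommRingCat.of k)))).hom f =
          pullback.snd (𝟙_ (Over (Spec (CommRingCat.of k)))).hom f ≫ f := by
        rw [← pullback.condition]
        exact (Category.comp_id _).symm
      rw [h0, ← Category.assoc]
      exact (congrArg (· ≫ f) (Over.w (Functor.LaxMonoidal.ε (Over.pullback f)))).trans (Category.id_comp f)
    simp only [Ψ, Over.comp_left, Over.pullback, Over.homMk_left, Category.assoc, pullback.lift_fst]
    exact (Category.assoc _ _ _).symm.trans (congrArg (· ≫ x.left) h)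
  let σ' : Over.mk σ ⟶ 𝟙_ (Over S') := toUnit _
  let Z := Multiplicative (Fin r → ℤ)
  let E := e
  have key : ∀ x, ∃! m : Z, σ' ≫ Ψ x = σ' ≫ (TwC.pt S' Z m ≫ e.inv) := by
    intro x
    let e' := e ≪≫ ConstTorsLib.constULift Z
    have hpc : ∀ m : Z, ExtDescLib.piece e' ⟨m⟩ = TwC.pt S' Z m ≫ e.inv := fun m => by
      show TwC.pt S' (ULift.{u} Z) ⟨m⟩ ≫ e'.inv = _
      rw [Iso.trans_inv, ← Category.assoc, ConstTorsLib.pt_constULift_inv]
    let x₀ := (σ' ≫ Ψ x).left (IsLocalRing.closedPoint k)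
    have hmem : ∀ m : Z, σ' ≫ Ψ x = σ' ≫ ExtDescLib.piece e' ⟨m⟩ ↔ x₀ ∈ Set.range (ExtDescLib.piece e' ⟨m⟩).left := by
      intro m
      constructor
      · intro hm
        refine ⟨σ'.left (IsLocalRing.closedPoint k), ?_⟩
        show _ = (σ' ≫ Ψ x).left _
        rw [hm]; rfl
      · intro hm
        let P := (ExtDescLib.piece e' ⟨m⟩).left
        have hrange : Set.range (σ' ≫ Ψ x).left ⊆ Set.range P := by
          rintro _ ⟨z, rfl⟩
          rw [Subsingleton.elim (α := PrimeSpectrum k) z (IsLocalRing.closedPoint k)]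
          exact hm
        have ht := IsOpenImmersion.lift_fac P (σ' ≫ Ψ x).left hrange
        have hP : P ≫ (Red.bc f L).hom = 𝟙 S' := Over.w (ExtDescLib.piece e' ⟨m⟩)
        have h1 : IsOpenImmersion.lift P (σ' ≫ Ψ x).left hrange = σ'.left := by
          have h2 := congrArg (· ≫ (Red.bc f L).hom) ht
          simp only [Category.assoc, hP] at h2
          refine (Category.comp_id _).symm.trans (h2.trans ?_)
          exact (Over.w (σ' ≫ Ψ x)).trans ((Over.w σ').symm.trans (Category.comp_id _))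
        apply Over.OverMorphism.ext
        rw [← ht, h1]
        rfl
    obtain ⟨m, hm⟩ := ExtDescLib.exists_piece e' x₀
    refine ⟨m.down, ?_, fun n hn => ?_⟩
    · beta_reduce; rw [← hpc]; exact (hmem _).2 hm
    · beta_reduce at hn; rw [← hpc] at hn
      exact congrArg ULift.down (ExtDescLib.piece_unique e' ((hmem n).1 hn) hm)
  choose φ hφ hφu using key
  refine ⟨hLe, r, MonoidHom.mk' φ fun x y => (hφu (x * y) _ ?_).symm, fun x y hxy => ?_⟩
  · beta_reduce; rw [hΨ, ← he (φ x) (φ y), MonObj.comp_mul, MonObj.comp_mul, ← hφ x, ← hφ y]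
  · change φ x = φ y at hxy
    have h1 : σ' ≫ Ψ x = σ' ≫ Ψ y := by rw [hφ x, hφ y, hxy]
    apply Over.OverMorphism.ext
    have h2 := congrArg (fun z => CommaMorphism.left z ≫ pullback.fst L.hom f) h1
    simp only [Over.comp_left, Category.assoc, hfst] at h2
    have hσ' : σ'.left ≫ f = 𝟙 _ := by
      have : σ'.left = σ := (Category.comp_id _).symm.trans (Over.w σ')
      rw [this, hσf]; rfl
    rw [← Category.assoc, ← Category.assoc, hσ'] at h2
    exact (Category.id_comp _).symm.trans (h2.trans (Category.id_comp _))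

theorem eq_one_of_forall_root {r : ℕ} {P : Type*} [Monoid P] (φ : P →* Multiplicative (Fin r → ℤ))
    (hφ : Function.Injective φ) (x : P) (h : ∀ m : ℕ, 1 ≤ m → ∃ y, y ^ m = x) : x = 1 := by
  apply hφ
  rw [map_one]
  refine Multiplicative.toAdd.injective (funext fun i => ?_)
  let a := Multiplicative.toAdd (φ x) i
  obtain ⟨y, hy⟩ := h (a.natAbs + 1) (by omega)
  have hd : ((a.natAbs + 1 : ℕ) : ℤ) ∣ a := ⟨Multiplicative.toAdd (φ y) i, by
    show Multiplicative.toAdd (φ x) i = _
    rw [← hy, map_pow, toAdd_pow]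
    simp⟩
  show a = 0
  by_contra hne
  have := Int.natAbs_dvd_natAbs.2 hd
  rw [Int.natAbs_natCast] at this
  exact absurd (Nat.le_of_dvd (Int.natAbs_pos.2 hne) this) (by omega)

theorem hom_eq_of_tzMap_eq (k : Type u) [Field k] [IsAlgClosed k] [CharZero k]
    (M N : OneMot.Motive (Spec (CommRingCat.of k))) (f g : OneMot.Motive.Hom M N)
    (h : ∀ m : ℕ, 1 ≤ m → OneMot.tzMap m (Over.mk (𝟙 (Spec (CommRingCat.of k)))) f = OneMot.tzMap m (Over.mk (𝟙 (Spec (CommRingCat.of k)))) g) :
    f = g := by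
  haveI := f.monHom_fL; haveI := g.monHom_fL; haveI := f.monHom_fG; haveI := g.monHom_fG
  obtain ⟨hMG, hMlft, hMqc⟩ := isSemiAb M.incl M.proj M.semiAb
  obtain ⟨hNG, hNlft, hNqc⟩ := isSemiAb N.incl N.proj N.semiAb
  haveI := hMlft; haveI := hMqc; haveI := hNlft; haveI := hNqc
  obtain ⟨hML, -⟩ := lattice_props M.lattice
  obtain ⟨hNL, r, φ, hφ⟩ := lattice_props N.lattice
  haveI := hML; haveI := hNL
  let T₀ := Over.mk (𝟙 (Spec (CommRingCat.of k)))
  letI : CommGroup (T₀ ⟶ M.G) := Hom.commGroup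
  letI : CommGroup (T₀ ⟶ N.G) := Hom.commGroup
  letI : CommGroup (T₀ ⟶ M.L) := Hom.commGroup
  letI : CommGroup (T₀ ⟶ N.L) := Hom.commGroup
  have key : ∀ (m : ℕ), 1 ≤ m → ∀ (x : T₀ ⟶ M.L) (a : T₀ ⟶ M.G), a ^ m = (x ≫ M.u)⁻¹ →
      ∃ y : T₀ ⟶ N.L, y ^ m = (x ≫ f.fL)⁻¹ * (x ≫ g.fL) ∧ (y ≫ N.u)⁻¹ = (a ≫ f.fG)⁻¹ * (a ≫ g.fG) := by
    intro m hm x a ha
    have hp : ((Additive.ofMul x, Additive.ofMul a) : Additive (T₀ ⟶ M.L) × Additive (T₀ ⟶ M.G)) ∈ OneMot.tzPairs M m T₀ := by
      show Additive.ofMul (x ≫ M.u) = -(m • Additive.ofMul a)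
      rw [← ofMul_pow, ha, ← ofMul_inv, inv_inv]
    have h0 := DFunLike.congr_fun (h m hm) (QuotientAddGroup.mk ⟨_, hp⟩)
    have h1 := QuotientAddGroup.eq.1 h0
    obtain ⟨y, hy⟩ := h1
    refine ⟨Additive.toMul y, ?_, ?_⟩
    · exact congrArg Additive.toMul (congrArg Prod.fst hy)
    · exact congrArg Additive.toMul (congrArg Prod.snd hy)
  have hL : f.fL = g.fL := by
    haveI : LocallyOfFiniteType M.L.hom := inferInstance
    haveI : IsReduced M.L.left := AlgSpLib.isReduced_of_smooth M.L.hom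
    haveI : IsSeparated N.L.hom := GrpField.isSeparated_grp (G := N.L)
    refine SemiAbLib.hom_ext_of_dense Set.univ (SemiAbLib.closure_pt_univ M.L) _ _ fun x _ => ?_
    have h0 : (x ≫ f.fL)⁻¹ * (x ≫ g.fL) = 1 := by
      refine eq_one_of_forall_root φ hφ _ fun m hm => ?_
      obtain ⟨a, ha⟩ := hMG.exists_root (n := m) (by omega) (x ≫ M.u)⁻¹
      obtain ⟨y, hy, -⟩ := key m hm x a ha
      exact ⟨y, hy⟩
    exact inv_mul_eq_one.1 h0
  refine OneMot.Motive.Hom.ext' hL ?_
  haveI : IsSeparated N.G.hom := GrpField.isSeparated_grp (G := N.G)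
  letI : CommGroup (M.G ⟶ N.G) := Hom.commGroup
  let δ : M.G ⟶ N.G := f.fG⁻¹ * g.fG
  haveI : IsMonHom δ := by
    refine ExtGm.isMonHom_of_mul _ fun Z a b => ?_
    letI : CommGroup (Z ⟶ N.G) := Hom.commGroup
    simp only [δ, MonObj.comp_mul, GrpObj.comp_inv, MonObj.mul_comp, mul_inv]
    exact mul_mul_mul_comm _ _ _ _
  haveI : Fact (Nat.Prime 2) := ⟨Nat.prime_two⟩
  have hδ : δ = 1 := by
    refine hMG.eq_one_of_torsion 2 (by rw [Nat.cast_ofNat]; exact two_ne_zero) δ ?_
    rintro a ⟨n, ha⟩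
    have hm : 1 ≤ 2 ^ n := Nat.one_le_two_pow
    obtain ⟨y, hy, hy'⟩ := key (2 ^ n) hm 1 a (by rw [MonObj.one_comp, inv_one]; exact ha)
    rw [MonObj.one_comp, MonObj.one_comp, inv_one, mul_one] at hy
    have hy1 : y = 1 := hφ (by
      rw [map_one]
      have h2 : φ y ^ (2 ^ n) = 1 := by rw [← map_pow, hy, map_one]
      refine Multiplicative.toAdd.injective (funext fun i => ?_)
      have h3 := congrFun (congrArg Multiplicative.toAdd h2) i
      simp at h3
      exact h3)
    simp only [δ, MonObj.comp_mul, GrpObj.comp_inv]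
    rw [← hy', hy1, MonObj.one_comp, inv_one]
  exact inv_mul_eq_one.1 hδ

end OneMotFaith
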